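import Cfsg.Agent.H225.TwOv.E6A
import Cfsg.Agent.H82.TwE6B

/-!
# The overgroup theorem for `²E₆`: the Bruhat key (S2187, X6, helper225)

`OvE6.key` (E5) : the key hypothesis of `H28.TwOv.bruhat_ind`, for an intermediate group whose unipotent part is fixed by `ψ`.
-/

set_option autoImplicit false
set_option linter.unusedSectionVars false

namespace Cfsg.Agent.H225.TwOv

open Cfsg.Lie Cfsg.Agent.H82.Level Cfsg.Agent.H82.TwMax Cfsg.Agent.ChevalleyStructure Cfsg.Agent.H82.TwE6
open Cfsg.Agent.ChevalleyStructure.RootCombGood (co car)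
open Cfsg.Agent.ChevalleyStructure.RootWord (wact)
open Cfsg.Agent.ChevalleyStructure.TwistedU
open Cfsg.Agent.ChevalleyStructure.TwistedE6Sigma (rho eps)
open Cfsg.Agent.ChevalleyStructure.TwistedE6U (L)
open Cfsg.Agent.ChevalleyStructure.TwE6Basic (hE6 sg fix mem_fix n posE negE nE)
open Cfsg.Agent.ChevalleyStructure.TwE6BN (rs x_mem_rs rs_le conj_rs acts_n VJ VJ_le)
open Cfsg.Agent.H28.TwOv
open scoped commutatorElement

universe u

namespace OvE6

variable {K : Type u} [Field K] [Fintype K] {r a p q q0 : ℕ} {φ ψ : K →+* K} {H : Subgroup (GL chevE6.Idx K)}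
  (V : OvE6 r a p q q0 φ ψ H) (hA : ∀ u ∈ H, u ∈ chevE6.posUnipotent K → fr chevE6 ψ u = u)

include V

theorem high_mem {r : ℕ} (hr : r ∈ [71, 70, 69]) : X r (1 : K) ∈ H := by
  have h1 : ∀ r ∈ [71, 70, 69], r < 72 ∧ rho r = r := by decide +kernel
  obtain ⟨h2, h3⟩ := h1 r hr
  exact V.real_mem h2 h3 (map_one φ) (map_one ψ)

include hA

theorem pairStage {w : List ℕ} {b m u : GL chevE6.Idx K}
    (hb : b ∈ chevE6.borelSubgroup K) (hn : NW rho (twistedE6 K q) m w)
    (hu : u ∈ chevE6.posUnipotent K) (hg : b * m * u ∈ H)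
    (hfix : ∀ d ∈ [71, 70, 69], wact chevE6 w d = d)
    (hγ : (wact chevE6 w.reverse 66 = 55 ∧ wact chevE6 w.reverse 68 = 67) ∨
      (wact chevE6 w.reverse 66 = 67 ∧ wact chevE6 w.reverse 68 = 55)) :
    ψ (cf 56 u) = cf 56 u := by
  have W := V.tw
  have Gd := RootComb.good_of_mem hE6
  have O := ord (K := K) hE6 slE6 twE6
  obtain ⟨r55, r67, r66, r68, t55, t67, t66, t68, a1, a2, a3, a4, e66, e68⟩ := tab55
  have hL : ∀ r ∈ [55, 67, 66, 68, 56], r ∈ L.flatten := by decide
  have c66 : ∀ s t : K, Commute (X 66 s : GL chevE6.Idx K) (X 68 t) := by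
    intro s t
    rw [← commutatorElement_eq_one_iff_commute, comm_X hE6 slE6 (by decide) (by decide) (by decide) (by decide +kernel),
      a3, Elts.xG_of_not_lt hE6 (r := 72) (by decide), mul_one, mul_inv_cancel]
  have c55 : ∀ s t : K, Commute (X 55 s : GL chevE6.Idx K) (X 67 t) := by
    intro s t
    rw [← commutatorElement_eq_one_iff_commute, comm_X hE6 slE6 (by decide) (by decide) (by decide) (by decide +kernel),
      a2, Elts.xG_of_not_lt hE6 (r := 72) (by decide), mul_one, mul_inv_cancel]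
  have h8 : ∀ a c : K, X 66 a * X 68 c ∈ Lv K hE6 slE6 8 := fun a c =>
    mul_mem (mem_Lv_X (hL 66 (by decide)) (by rw [t66]) a) (mem_Lv_X (hL 68 (by decide)) (by rw [t68]) c)
  have hc8 : ∀ a c : K, ∀ r < 72, ht chevE6 r = 8 →
      cf r (X 66 a * X 68 c) = (if r = 66 then a else 0) + (if r = 68 then c else 0) := by
    intro a c r hr hr8
    rw [cf_mul_left hE6 slE6 (mem_Lv_X (hL 66 (by decide)) (by rw [hr8, t66]) a)
      (Elts.xG_mem_posUnipotent hE6 (pos_of_mem (hL 68 (by decide))) c), cf_X hr (by norm_num), cf_X hr (by norm_num)]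
  obtain ⟨e, he⟩ : ∃ e, e = X 66 (1 : K) * X 68 1 := ⟨_, rfl⟩
  have he8 : e ∈ Lv K hE6 slE6 8 := by rw [he]; exact h8 1 1
  have heH : e ∈ H := by
    refine V.memU _ he8.1 ?_ ?_
    · rw [he, map_mul, W.sg_X 66 (pos_of_mem (hL 66 (by decide))), W.sg_X 68 (pos_of_mem (hL 68 (by decide))), r66, r68,
        e66, e68, map_one, Int.cast_one, one_mul]
      exact (c66 1 1).symm.eq
    · rw [he, map_mul, fr_X, fr_X, map_one]
  obtain ⟨h1, h2⟩ := borel_conj hE6 slE6 hb he8
  obtain ⟨x1, hx1, h3⟩ := h2 66 t66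
  obtain ⟨x2, hx2, h4⟩ := h2 68 t68
  rw [he, hc8 1 1 66 (by norm_num) t66, if_pos rfl, if_neg (by norm_num), add_zero, mul_one, ← he] at h3
  rw [he, hc8 1 1 68 (by norm_num) t68, if_neg (by norm_num), if_pos rfl, zero_add, mul_one, ← he] at h4
  obtain ⟨y, hy⟩ : ∃ y, y = b⁻¹ * e * b := ⟨_, rfl⟩
  rw [← hy] at h1 h3 h4
  have h5 : (X 66 x1 * X 68 x2)⁻¹ * y ∈ Lv K hE6 slE6 9 := by
    have h9 : ∀ s ∈ L.flatten, ht chevE6 s = 8 → s = 66 ∨ s = 68 := by decide +kernel
    refine mem_Lv_succ hE6 slE6 O (m := 8) (mul_mem (inv_mem (h8 x1 x2)) h1) fun r hr hrm => ?_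
    rw [cf_mul_left hE6 slE6 (by rw [hrm]; exact inv_mem (h8 x1 x2)) h1.1,
      cf_inv hE6 slE6 (by rw [hrm]; exact h8 x1 x2), hc8 x1 x2 r hr.1 hrm]
    rcases h9 r (mem_of_pos hr) hrm with rfl | rfl
    · rw [h3]; norm_num
    · rw [h4]; norm_num
  have hni := hn.acts.inv Gd hn.lt
  have hlt : ∀ a ∈ w.reverse, a < chevE6.rank := fun a ha => hn.lt a (List.mem_reverse.1 ha)
  have h6 := n_conj_Lv W hni (m := 9) (fun s hs hms => by
    have h9 : ∀ s ∈ L.flatten, 9 ≤ ht chevE6 s → s ∈ [71, 70, 69] := by decide +kernel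
    have := hfix s (h9 s (mem_of_pos hs) hms)
    rw [← this, RootWord.wact_reverse Gd hn.lt hs.1, this]) h5
  obtain ⟨c1, hc1, hc1'⟩ := acts_X hE6 hni (s := 66) (by decide) x1
  obtain ⟨c2, hc2, hc2'⟩ := acts_X hE6 hni (s := 68) (by decide) x2
  obtain ⟨c, c', hc0, hcc⟩ : ∃ c c' : K, c ≠ 0 ∧ m⁻¹ * X 66 x1 * m⁻¹⁻¹ * (m⁻¹ * X 68 x2 * m⁻¹⁻¹) = X 55 c * X 67 c' := by
    rcases hγ with ⟨g1, g2⟩ | ⟨g1, g2⟩
    · refine ⟨c1, c2, hc1' hx1, ?_⟩
      rw [hc1, hc2, g1, g2]
    · refine ⟨c2, c1, hc2' hx2, ?_⟩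
      rw [hc1, hc2, g1, g2]
      exact (c55 c2 c1).symm.eq
  obtain ⟨y', hy'⟩ : ∃ y', y' = m⁻¹ * ((X 66 x1 * X 68 x2)⁻¹ * y) * m⁻¹⁻¹ := ⟨_, rfl⟩
  rw [← hy'] at h6
  have hz : (b * m * u)⁻¹ * e * (b * m * u) = u⁻¹ * (X 55 c * X 67 c') * u * (u⁻¹ * y' * u⁻¹⁻¹) := by
    rw [← hcc, hy', hy]
    group
  have hτ : u⁻¹ * y' * u⁻¹⁻¹ ∈ Lv K hE6 slE6 9 := conj_mem_Lv hE6 slE6 h6 (inv_mem hu)
  have hzH : u⁻¹ * (X 55 c * X 67 c') * u * (u⁻¹ * y' * u⁻¹⁻¹) ∈ H := by
    rw [← hz]
    exact mul_mem (mul_mem (inv_mem hg) heH) hg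
  have hX55 : X 55 c ∈ Lv K hE6 slE6 7 := mem_Lv_X (hL 55 (by decide)) (by rw [t55]) c
  have hX67 : X 67 c' ∈ Lv K hE6 slE6 7 := mem_Lv_X (hL 67 (by decide)) (by rw [t67]) c'
  have hzU : u⁻¹ * (X 55 c * X 67 c') * u * (u⁻¹ * y' * u⁻¹⁻¹) ∈ chevE6.posUnipotent K :=
    mul_mem (mul_mem (mul_mem (inv_mem hu) (mul_mem hX55.1 hX67.1)) hu) hτ.1
  have hf := hA _ hzH hzU
  have h56 : ht chevE6 56 = 1 := ht_one (by decide)
  refine LS hE6 slE6 O ψ (γ := 55) (j := 56) (pos_of_mem (hL 55 (by decide))) (pos_of_mem (hL 56 (by decide))) h56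
    (by rw [a1]; decide) hu hc0 (y := X 67 c') (τ := u⁻¹ * y' * u⁻¹⁻¹) (by rw [t55]; exact hX67)
    (by rw [t55]; exact hτ) ?_ ?_ ?_ hf
  · rw [cf_X (by norm_num) (by norm_num), if_neg (by norm_num)]
  · rw [a1, cf_mul hE6 slE6 (m := 7) (n := 7) hX55 hX67 (by rw [t66]; norm_num), cf_X (by norm_num) (by norm_num),
      cf_X (by norm_num) (by norm_num), if_neg (by norm_num), if_neg (by norm_num), add_zero]
  · rw [a1]
    exact cf_comm_X_right_zero hE6 slE6 O (pos_of_mem (hL 67 (by decide))) (pos_of_mem (hL 66 (by decide)))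
      (by rw [t66, t67]; norm_num) (fun s hs => a4 s (mem_of_pos hs)) (inv_mem hu) c'

/-- the last stage -/
theorem last {w : List ℕ} {b m u : GL chevE6.Idx K}
    (hb : b ∈ chevE6.borelSubgroup K) (hn : NW rho (twistedE6 K q) m w)
    (hu : u ∈ chevE6.posUnipotent K) (huG : u ∈ twistedE6 K q) (hg : b * m * u ∈ H)
    (hfix : ∀ d ∈ [71, 70, 69], wact chevE6 w d = d) :
    (∀ i < chevE6.rank, chevE6.IsPosRoot (wact chevE6 w (chevE6.simple i))) ∨
      ∃ i, (∀ j ∈ TwE6Basic.J i, chevE6.IsNegRoot (wact chevE6 w (chevE6.simple j))) ∧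
        (∀ j ∈ TwE6Basic.J i, ψ (cf (chevE6.simple j) u) = cf (chevE6.simple j) u) ∧
        ∀ j ∈ TwE6Basic.J i, car chevE6 (chevE6.simple j) 71 = 0 := by
  have W := V.tw
  have Gd := RootComb.good_of_mem hE6
  obtain ⟨s0, s1, s2, s3, s4, s5⟩ := simples
  have hd72 : ∀ d ∈ [71, 70, 69], d < 72 := by decide
  have hcar : ∀ r < 72, ∀ d ∈ [71, 70, 69], car chevE6 (wact chevE6 w r) d = car chevE6 r d := by
    intro r hr d hd
    have h1 := RootWord.car_wact Gd hn.lt hr (hd72 d hd)
    rwa [hfix d hd] at h1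
  have hwlt : ∀ r < 72, wact chevE6 w r < 72 := fun r hr => RootWord.wact_lt Gd hn.lt hr
  have hsl : ∀ i < 6, chevE6.simple i < 72 := fun i hi => Gd.simple_lt hi
  have hinner : ∀ i < 6, i ∉ [0, 5] → chevE6.IsPosRoot (wact chevE6 w (chevE6.simple i)) := by
    intro i hi hi'
    rcases RootWord.pos_or_neg Gd (hwlt _ (hsl i hi)) with hp | hp
    · exact hp
    · exfalso
      have hneg := (RootWord.isPosRoot_neg Gd (hwlt _ (hsl i hi))).2 hp
      have hnlt := RootWord.neg_lt Gd (hwlt _ (hsl i hi))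
      have hd : ∀ d ∈ [71, 70, 69], car chevE6 (chevE6.neg (wact chevE6 w (chevE6.simple i))) d =
          - car chevE6 (chevE6.simple i) d := by
        intro d hd
        rw [RootWord.car_neg_left Gd (hwlt _ (hsl i hi)) d, hcar _ (hsl i hi) d hd]
      have d0 := hd 71 (by decide)
      have d1 := hd 70 (by decide)
      have d2 := hd 69 (by decide)
      rcases simple_pairing i hi hi' with h1 | ⟨h1, h2⟩ | ⟨h1, h2, h3⟩
      · have := lp0 _ hnlt hneg (by simp)
        omega
      · have := lp1 _ hnlt hneg (by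
          intro d hd
          rw [List.mem_singleton] at hd
          subst hd
          omega)
        omega
      · have := lp2 _ hnlt hneg (by
          intro d hd
          simp only [List.mem_cons, List.not_mem_nil, or_false] at hd
          rcases hd with rfl | rfl <;> omega)
        omega
  have hrho : wact chevE6 w 36 = rho (wact chevE6 w 56) := by
    have h1 := hn.comm 56 (by decide)
    have h2 : rho 56 = 36 := by decide +kernel
    rwa [h2] at h1
  have h56 := hwlt 56 (by norm_num)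
  rcases RootWord.pos_or_neg Gd h56 with hp | hp
  · left
    intro i hi
    by_cases hi' : i ∈ [0, 5]
    · simp only [List.mem_cons, List.not_mem_nil, or_false] at hi'
      rcases hi' with rfl | rfl
      · rw [s0]; exact hp
      · rw [s5, hrho]; exact rho_pos W hp
    · exact hinner i hi hi'
  · right
    have hneg := (RootWord.isPosRoot_neg Gd h56).2 hp
    have hnlt := RootWord.neg_lt Gd h56
    have ho : ∀ d ∈ [71, 70, 69], car chevE6 (chevE6.neg (wact chevE6 w 56)) d = 0 := by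
      intro d hd
      rw [RootWord.car_neg_left Gd h56 d, hcar 56 (by norm_num) d hd, ← s0, (pairTab' d hd).2, neg_zero]
    have hlt : ∀ a ∈ w.reverse, a < chevE6.rank := fun a ha => hn.lt a (List.mem_reverse.1 ha)
    have key : ∀ x ∈ [66, 68], 0 < car chevE6 (chevE6.neg (wact chevE6 w 56)) x → wact chevE6 w.reverse x = 55 := by
      intro x hx hpos
      have hx' : ∀ x ∈ [66, 68], x < 72 := by decide
      have hx2 := hx' x hx
      have hx3 := RootWord.wact_lt Gd hlt hx2
      have hx4 := RootWord.wact_reverse' Gd hn.lt hx2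
      refine pairTab _ hx3 ?_ ?_
      · intro d hd
        rw [← hcar _ hx3 d hd, hx4]
        simp only [List.mem_cons, List.not_mem_nil, or_false] at hx
        rcases hx with rfl | rfl
        · rfl
        · exact (pairTab' d hd).1
      · rw [s0, ← RootWord.car_wact Gd hn.lt (by decide) hx3, hx4]
        rw [RootWord.car_neg_left Gd h56 x] at hpos
        omega
    obtain ⟨r55, r67, r66, r68, -⟩ := tab55
    have hrr : ∀ x < 72, wact chevE6 w.reverse x = 55 → wact chevE6 w.reverse (rho x) = 67 := by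
      intro x hx h1
      have h2 := hn.comm 55 (by decide)
      have h3 := RootWord.wact_reverse' Gd hn.lt (r := x) hx
      rw [h1] at h3
      rw [r55, h3] at h2
      have h4 := RootWord.wact_reverse Gd hn.lt (r := 67) (by decide)
      rwa [h2] at h4
    have hγ : (wact chevE6 w.reverse 66 = 55 ∧ wact chevE6 w.reverse 68 = 67) ∨
      (wact chevE6 w.reverse 66 = 67 ∧ wact chevE6 w.reverse 68 = 55) := by
      rcases pairPos _ hnlt hneg ho with h1 | h1
      · left
        have h2 := key 66 (by decide) h1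
        have h3 := hrr 66 (by norm_num) h2
        rw [r66] at h3
        exact ⟨h2, h3⟩
      · right
        have h2 := key 68 (by decide) h1
        have h3 := hrr 68 (by norm_num) h2
        rw [r68] at h3
        exact ⟨h3, h2⟩
    have h7 := V.pairStage hA hb hn hu hg hfix hγ
    have h8 := cf_iter W V.comm (pos_of_mem (by decide)) (ht_one (by decide)) hu huG h7 1
    have h9 : rho^[1] 56 = 36 := by decide +kernel
    rw [h9] at h8
    have hJ : ∀ j ∈ TwE6Basic.J 3, chevE6.simple j = 56 ∨ chevE6.simple j = 36 := by decide +kernel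
    refine ⟨3, fun j hj => ?_, fun j hj => ?_, by decide +kernel⟩
    · rcases hJ j hj with e | e
      · rw [e]; exact hp
      · rw [e, hrho]
        rcases RootWord.pos_or_neg Gd (twE6.rho_lt _ h56) with h10 | h10
        · exfalso
          have h11 := rho_pos W h10
          have h12 : ∀ r < 72, rho (rho r) = r := by decide +kernel
          rw [h12 _ h56] at h11
          exact RootWord.not_pos_of_neg Gd hp h11
        · exact h10
    · rcases hJ j hj with e | e
      · rw [e]; exact h7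
      · rw [e]; exact h8.2.2

/-- **E5.** -/
theorem key (w : List ℕ) (b m u : GL chevE6.Idx K)
    (hb : b ∈ chevE6.borelSubgroup K) (hn : NW rho (twistedE6 K q) m w)
    (hu : u ∈ chevE6.posUnipotent K) (huG : u ∈ twistedE6 K q) (hg : b * m * u ∈ H) :
    (∀ i < chevE6.rank, chevE6.IsPosRoot (wact chevE6 w (chevE6.simple i))) ∨ wact chevE6 w.reverse 71 = 0 ∨
      ∃ i, (∀ j ∈ TwE6Basic.J i, chevE6.IsNegRoot (wact chevE6 w (chevE6.simple j))) ∧
        (∀ j ∈ TwE6Basic.J i, ψ (cf (chevE6.simple j) u) = cf (chevE6.simple j) u) ∧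
        wact chevE6 (TwE6Basic.J i) (wact chevE6 w.reverse 71) ≠ 0 := by
  have W := V.tw
  have Gd := RootComb.good_of_mem hE6
  have hlt : ∀ a ∈ w.reverse, a < chevE6.rank := fun a ha => hn.lt a (List.mem_reverse.1 ha)
  by_cases h0 : wact chevE6 w.reverse 71 = 0
  · exact Or.inr (Or.inl h0)
  have hcl : ∀ o ∈ cl, ∀ j ∈ o, j < chevE6.rank := by decide
  have horb : ∀ o ∈ cl, ∀ j ∈ o, ∀ j' ∈ o, ∃ k, rho^[k] (chevE6.simple j) = chevE6.simple j' := by
    have : ∀ o ∈ cl, ∀ j ∈ o, ∀ j' ∈ o, ∃ k < 2, rho^[k] (chevE6.simple j) = chevE6.simple j' := by decide +kernel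
    intro o ho j hj j' hj'
    obtain ⟨k, -, hk⟩ := this o ho j hj j' hj'
    exact ⟨k, hk⟩
  have hfin : (∃ o ∈ cl, (∀ j ∈ o, chevE6.IsNegRoot (wact chevE6 w (chevE6.simple j))) ∧
      (∀ j ∈ o, ψ (cf (chevE6.simple j) u) = cf (chevE6.simple j) u) ∧ wact chevE6 o (wact chevE6 w.reverse 71) ≠ 0) →
      ∃ i, (∀ j ∈ TwE6Basic.J i, chevE6.IsNegRoot (wact chevE6 w (chevE6.simple j))) ∧
        (∀ j ∈ TwE6Basic.J i, ψ (cf (chevE6.simple j) u) = cf (chevE6.simple j) u) ∧
        wact chevE6 (TwE6Basic.J i) (wact chevE6 w.reverse 71) ≠ 0 := by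
    rintro ⟨o, ho, h1, h2, h3⟩
    have : ∀ o ∈ cl, ∃ i, TwE6Basic.J i = o := by decide
    obtain ⟨i, rfl⟩ := this o ho
    exact ⟨i, h1, h2, h3⟩
  have hpos : ∀ d ∈ [71, 70, 69], chevE6.IsPosRoot d := by
    intro d hd
    have : ∀ d ∈ [71, 70, 69], d ∈ L.flatten := by decide
    exact pos_of_mem (this d hd)
  have huniq : ∀ d ∈ [71, 70, 69], ∀ s, chevE6.IsPosRoot s → ht chevE6 s = ht chevE6 d → s = d := by
    have : ∀ d ∈ [71, 70, 69], ∀ s ∈ L.flatten, ht chevE6 s = ht chevE6 d → s = d := by decide +kernel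
    exact fun d hd s hs h => this d hd s (mem_of_pos hs) h
  have hrev : ∀ d ∈ [71, 70, 69], wact chevE6 w d ≠ d → wact chevE6 w.reverse d ≠ d := by
    intro d hd h1 h2
    apply h1
    have h3 := RootWord.wact_reverse' Gd hn.lt (r := d) (hpos d hd).1
    rwa [h2] at h3
  by_cases hw0 : wact chevE6 w 71 = 71
  · have hr0 : wact chevE6 w.reverse 71 = 71 := by
      have h3 := RootWord.wact_reverse Gd hn.lt (r := 71) (by decide)
      rwa [hw0] at h3
    have hz : wact chevE6 w.reverse 0 = 0 := by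
      have h1 := RootWord.wact_neg Gd hlt (r := 71) (by decide)
      have h2 : chevE6.neg 71 = 0 := by decide +kernel
      rwa [hr0, h2] at h1
    have hnz : ∀ d ∈ [70, 69], wact chevE6 w.reverse d ≠ 0 := by
      intro d hd h1
      have h2 : ∀ d ∈ [70, 69], d < 72 ∧ d ≠ 0 := by decide
      exact (h2 d hd).2 (RootWord.wact_inj Gd hlt (h2 d hd).1 (by decide) (h1.trans hz.symm))
    have h71 : ∀ o ∈ cl, (∀ j ∈ o, car chevE6 (chevE6.simple j) 71 = 0) →
        wact chevE6 o (wact chevE6 w.reverse 71) ≠ 0 := by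
      intro o ho h1
      rw [hr0, wact_71 o ho h1]
      decide
    by_cases hw1 : wact chevE6 w 70 = 70
    · by_cases hw2 : wact chevE6 w 69 = 69
      · rcases V.last hA hb hn hu huG hg (by
          intro d hd
          simp only [List.mem_cons, List.not_mem_nil, or_false] at hd
          rcases hd with rfl | rfl | rfl
          · exact hw0
          · exact hw1
          · exact hw2) with h1 | ⟨i, h1, h2, h3⟩
        · exact Or.inl h1
        · refine Or.inr (Or.inr ⟨i, h1, h2, h71 _ ?_ h3⟩)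
          have : ∀ i, TwE6Basic.J i ∈ cl := by decide
          exact this i
      · refine Or.inr (Or.inr (hfin ?_))
        obtain ⟨o, ho, h1, h2, h3⟩ := stage W V.comm hA stp2 lp2 hcl horb (by simp) (by simp) (by decide)
          (hpos 69 (by decide)) (by decide +kernel) (huniq 69 (by decide)) (V.high_mem (by decide))
          (by
            intro s hs h1
            have : ∀ s ∈ L.flatten, ht chevE6 69 + 1 ≤ ht chevE6 s → s ∈ [71, 70] := by decide +kernel
            exact this s (mem_of_pos hs) h1) hb hn hu huG hg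
          (by
            intro d hd
            simp only [List.mem_cons, List.not_mem_nil, or_false] at hd
            rcases hd with rfl | rfl
            · exact hw0
            · exact hw1) (hrev 69 (by decide) hw2) (hnz 69 (by decide))
        exact ⟨o, ho, h1, h2, h71 o ho fun j hj => (h3 j hj).1 71 (by decide)⟩
    · refine Or.inr (Or.inr (hfin ?_))
      obtain ⟨o, ho, h1, h2, h3⟩ := stage W V.comm hA stp1 lp1 hcl horb (by simp) (by simp) (by decide)
        (hpos 70 (by decide)) (by decide +kernel) (huniq 70 (by decide)) (V.high_mem (by decide))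
        (by
          intro s hs h1
          have : ∀ s ∈ L.flatten, ht chevE6 70 + 1 ≤ ht chevE6 s → s ∈ [71] := by decide +kernel
          exact this s (mem_of_pos hs) h1) hb hn hu huG hg
        (by
          intro d hd
          rw [List.mem_singleton] at hd
          subst hd
          exact hw0) (hrev 70 (by decide) hw1) (hnz 70 (by decide))
      exact ⟨o, ho, h1, h2, h71 o ho fun j hj => (h3 j hj).1 71 (by decide)⟩
  · refine Or.inr (Or.inr (hfin ?_))
    obtain ⟨o, ho, h1, h2, h3⟩ := stage W V.comm hA stp0 lp0 hcl horb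
      (by
        intro β hβ
        have h1 : ∀ β ∈ [71, 70], β ∈ [71, 70, 69] := by decide
        exact ⟨hpos β (h1 β hβ), V.high_mem (h1 β hβ)⟩)
      (by
        intro _ s hs
        have : ∀ s ∈ L.flatten, ht chevE6 s ≤ ht chevE6 71 := by decide +kernel
        exact this s (mem_of_pos hs)) (by simp) (hpos 71 (by decide)) (by decide +kernel)
      (huniq 71 (by decide)) (V.high_mem (by decide))
      (by
        intro s hs h1
        have : ∀ s ∈ L.flatten, ¬ (ht chevE6 71 + 1 ≤ ht chevE6 s) := by decide +kernel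
        exact absurd h1 (this s (mem_of_pos hs))) hb hn hu huG hg (by simp) (hrev 71 (by decide) hw0) h0
    exact ⟨o, ho, h1, h2, wact_ne o ho _ (RootWord.wact_lt Gd hlt (by decide)) fun j hj => (h3 j hj).2⟩

end OvE6

end Cfsg.Agent.H225.TwOv
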