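import Cfsg.Agent.H225.TwOv.E6A

/-!
# The overgroup theorem for `²E₆`: an element `x_α(t)` with `ψ t ≠ t` (S2187, X6, helper225)

`OvE6.full` (E6) : if `H` contains `X 71 t` with `ψ t ≠ t` then `H = ²E₆(q)`.
-/

set_option autoImplicit false
set_option linter.unusedSectionVars false

namespace Cfsg.Agent.H225.TwOv

open Cfsg.Lie Cfsg.Agent.H82.Level Cfsg.Agent.H82.TwMax Cfsg.Agent.ChevalleyStructure Cfsg.Agent.H82.TwE6
open Cfsg.Agent.ChevalleyStructure.RootCombGood (co car)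
open Cfsg.Agent.ChevalleyStructure.RootWord (wact)
open Cfsg.Agent.ChevalleyStructure.TwistedU
open Cfsg.Agent.ChevalleyStructure.TwistedE6Sigma (rho eps)
open Cfsg.Agent.ChevalleyStructure.TwistedE6U (L)
open Cfsg.Agent.ChevalleyStructure.TwE6Basic (hE6 sg fix mem_fix n posE negE nE)
open Cfsg.Agent.ChevalleyStructure.TwE6BN (rs x_mem_rs rs_le conj_rs acts_n VJ VJ_le)
open scoped commutatorElement

universe u

/-- words taking the highest root to the real roots -/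
def wds : List (List (Fin 4)) :=
  [[], [0], [1, 0], [2, 1, 0], [1, 2, 1, 0], [3, 2, 1, 0], [0, 1, 2, 1, 0], [3, 1, 2, 1, 0], [3, 0, 1, 2, 1, 0],
  [2, 3, 1, 2, 1, 0], [2, 3, 0, 1, 2, 1, 0], [1, 2, 3, 1, 2, 1, 0], [1, 2, 3, 0, 1, 2, 1, 0], [0, 1, 2, 3, 1, 2, 1, 0],
  [0, 1, 2, 3, 0, 1, 2, 1, 0], [2, 1, 2, 3, 0, 1, 2, 1, 0], [2, 0, 1, 2, 3, 0, 1, 2, 1, 0],
  [3, 2, 1, 2, 3, 0, 1, 2, 1, 0], [1, 2, 0, 1, 2, 3, 0, 1, 2, 1, 0], [3, 2, 0, 1, 2, 3, 0, 1, 2, 1, 0],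
  [3, 1, 2, 0, 1, 2, 3, 0, 1, 2, 1, 0], [2, 3, 1, 2, 0, 1, 2, 3, 0, 1, 2, 1, 0],
  [1, 2, 3, 1, 2, 0, 1, 2, 3, 0, 1, 2, 1, 0], [0, 1, 2, 3, 1, 2, 0, 1, 2, 3, 0, 1, 2, 1, 0]]

theorem wds_ok : ∀ r < 72, rho r = r → ∃ l ∈ wds, wpl l 71 = r := by decide +kernel

theorem rho71 : rho 71 = 71 := by decide +kernel

theorem X_inj {K : Type u} [Field K] {r : ℕ} (hr : r < 72) {s t : K} (h : (X r s : GL chevE6.Idx K) = X r t) : s = t :=
  Elts.xG_injective hE6 hr h

namespace OvE6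

variable {K : Type u} [Field K] [Fintype K] {r₀ a p q q0 : ℕ} {φ ψ : K →+* K} {H : Subgroup (GL chevE6.Idx K)}
  (V : OvE6 r₀ a p q q0 φ ψ H)

include V

theorem conj_fix {l : List (Fin 4)} {s : ℕ} (hs : s < 72) (h : rho s = s) (h' : rho (wpl l s) = wpl l s) :
    ∃ η : K, η ≠ 0 ∧ φ η = η ∧ ψ η = η ∧ ∀ t : K, nl K l * X s t * (nl K l)⁻¹ = X (wpl l s) (η * t) := by
  obtain ⟨η, h0, h1⟩ := nl_conj (K := K) l hs
  have h2 := h1 1
  rw [mul_one] at h2
  have hl := wpl_lt l hs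
  refine ⟨η, h0, ?_, ?_, h1⟩
  · have h3 := congrArg (sg φ) h2
    rw [map_mul, map_mul, map_inv, V.G_fix (V.le (V.nl_mem l)), sg_real φ hs h, sg_real φ hl h', map_one, h2] at h3
    exact (X_inj hl h3).symm
  · have h3 := congrArg (fr chevE6 ψ) h2
    rw [map_mul, map_mul, map_inv, fr_nl, fr_X, fr_X, map_one, h2] at h3
    exact (X_inj hl h3).symm

theorem A_fix {t : K} (h : X 71 t ∈ H) : φ t = t := by
  have h1 := V.G_fix (V.le h)
  rw [sg_real φ (by norm_num) rho71] at h1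
  exact X_inj (by norm_num) h1

/-- the real root subgroups have the same parameters, up to a fixed factor -/
theorem real_iff {r : ℕ} (hr : r < 72) (h : rho r = r) :
    ∃ η : K, η ≠ 0 ∧ φ η = η ∧ ψ η = η ∧ ∀ t, (X r (η * t) ∈ H ↔ X 71 t ∈ H) := by
  obtain ⟨l, -, hl⟩ := wds_ok r hr h
  obtain ⟨η, h0, h1, h2, h3⟩ := V.conj_fix (l := l) (s := 71) (by norm_num) rho71 (by rw [hl]; exact h)
  refine ⟨η, h0, h1, h2, fun t => ?_⟩
  rw [← hl, ← h3]
  have hm := V.nl_mem l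
  constructor
  · intro h4
    exact conj_mem_H hm h4
  · intro h4
    exact mul_mem (mul_mem hm h4) (inv_mem hm)

theorem A_neg {t : K} (h : X 71 t ∈ H) : X 71 (-t) ∈ H := by
  have h1 : X 71 (-t) * X 71 t = (1 : GL chevE6.Idx K) := by
    rw [Elts.xG_add, neg_add_cancel]
    exact X_zero 71
  rw [eq_inv_of_mul_eq_one_left h1]
  exact inv_mem h

theorem A_comm {s t : K} (hs : X 46 s ∈ H) (ht : X 70 t ∈ H) : X 71 (s * t) ∈ H := by
  have h4 : ⁅(X 46 s : GL chevE6.Idx K), X 70 t⁆ ∈ H := by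
    rw [commutatorElement_def]
    exact mul_mem (mul_mem (mul_mem hs ht) (inv_mem hs)) (inv_mem ht)
  have h5 : add chevE6 46 70 = 71 := by decide +kernel
  have h6 : kap chevE6 46 70 = 1 ∨ kap chevE6 46 70 = -1 := by decide +kernel
  rw [comm_X hE6 slE6 (by decide) (by decide) (by decide) (by decide +kernel), h5] at h4
  have h7 : X 71 ((kap chevE6 46 70 : K) * (s * t)) ∈ H := conj_mem_H ht h4
  rcases h6 with h6 | h6
  · rwa [h6, Int.cast_one, one_mul] at h7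
  · rw [h6, Int.cast_neg, Int.cast_one, neg_one_mul] at h7
    have h8 := V.A_neg h7
    rwa [neg_neg] at h8

theorem A_smul {d t : K} (h1 : φ d = d) (h2 : ψ d = d) (ht : X 71 t ∈ H) : X 71 (d * t) ∈ H := by
  obtain ⟨θ, g0, g1, g2, g3⟩ := V.real_iff (r := 70) (by norm_num) (by decide +kernel)
  have h3 : X 46 (d * θ⁻¹) ∈ H := V.real_mem (by norm_num) (by decide +kernel) (by rw [map_mul, map_inv₀, g1, h1])
    (by rw [map_mul, map_inv₀, g2, h2])
  have h4 := V.A_comm h3 ((g3 t).2 ht)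
  have e : d * θ⁻¹ * (θ * t) = d * t := by field_simp
  rwa [e] at h4

theorem A_mul {s t : K} (hs : X 71 s ∈ H) (ht : X 71 t ∈ H) : X 71 (s * t) ∈ H := by
  obtain ⟨η, h0, h1, h2, h3⟩ := V.real_iff (r := 46) (by norm_num) (by decide +kernel)
  obtain ⟨θ, g0, g1, g2, g3⟩ := V.real_iff (r := 70) (by norm_num) (by decide +kernel)
  have h4 := V.A_smul (d := (η * θ)⁻¹) (by rw [map_inv₀, map_mul, h1, g1]) (by rw [map_inv₀, map_mul, h2, g2])
    (V.A_comm ((h3 s).2 hs) ((g3 t).2 ht))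
  have e : (η * θ)⁻¹ * (η * s * (θ * t)) = s * t := by field_simp
  rwa [e] at h4

theorem A_one : X 71 (1 : K) ∈ H := V.real_mem (by norm_num) rho71 (map_one _) (map_one _)

theorem A_pow {t : K} (ht : X 71 t ∈ H) (k : ℕ) : X 71 (t ^ k) ∈ H := by
  induction k with
  | zero => rw [pow_zero]; exact V.A_one
  | succ k ih => rw [pow_succ]; exact V.A_mul ih ht

/-- the real root elements -/
theorem real_all {t₀ : K} (h : X 71 t₀ ∈ H) (hψ : ψ t₀ ≠ t₀) {r : ℕ} (hr : r < 72) (hrr : rho r = r) {c : K}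
    (hc : φ c = c) : X r c ∈ H := by
  let S : Subfield K :=
    { carrier := {t | X 71 t ∈ H}
      mul_mem' := fun hs ht => V.A_mul hs ht
      one_mem' := V.A_one
      add_mem' := fun {s t} hs ht => by
        show Elts.xG hE6 71 (s + t) ∈ H
        rw [← Elts.xG_add]
        exact mul_mem hs ht
      zero_mem' := by
        show X 71 0 ∈ H
        rw [X_zero]
        exact one_mem _
      neg_mem' := fun hs => V.A_neg hs
      inv_mem' := fun t ht => by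
        show X 71 t⁻¹ ∈ H
        by_cases h0 : t = 0
        · rw [h0, inv_zero, X_zero]
          exact one_mem _
        have h1 : t⁻¹ = t ^ (Fintype.card K - 1 - 1) := by
          have h2 : t ^ (Fintype.card K - 1) = 1 := FiniteField.pow_card_sub_one_eq_one t h0
          have h3 : 1 ≤ Fintype.card K - 1 := by
            have := Fintype.one_lt_card (α := K)
            omega
          rw [inv_eq_of_mul_eq_one_right]
          rw [← pow_succ', Nat.sub_add_cancel h3, h2]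
        rw [h1]
        exact V.A_pow ht _ }
  have h1 := V.all_of_sub S (fun t ht => V.A_fix ht)
    (fun t h1 h2 => V.real_mem (s := 71) (by norm_num) rho71 h1 h2) (t₀ := t₀) h hψ
  obtain ⟨η, h0, g1, g2, g3⟩ := V.real_iff hr hrr
  have h2 : X 71 (η⁻¹ * c) ∈ H := h1 _ (by rw [map_mul, map_inv₀, g1, hc])
  have h3 := (g3 _).2 h2
  rwa [mul_inv_cancel_left₀ h0] at h3

theorem B_fix {t : K} (ht : ψ t = t) : Q φ t ∈ H := by
  have hp : ∀ r ∈ [42, 37], r ∈ L.flatten := by decide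
  refine V.memU _ ?_ (V.G_fix (Q_mem V.hφ t)) ?_
  · unfold Q
    exact mul_mem (Elts.xG_mem_posUnipotent hE6 (pos_of_mem (hp 42 (by decide))) _)
      (Elts.xG_mem_posUnipotent hE6 (pos_of_mem (hp 37 (by decide))) _)
  · unfold Q
    rw [map_mul, fr_X, fr_X, V.comm, ht]

theorem B_smul (hall : ∀ r < 72, rho r = r → ∀ c, φ c = c → X r c ∈ H) {c s : K} (hc : φ c = c) (hs : Q φ s ∈ H) :
    Q φ (c * s) ∈ H := by
  by_cases hc0 : c = 0
  · rw [hc0, zero_mul, Q_zero]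
    exact one_mem _
  have hd0 : c⁻¹ ≠ 0 := inv_ne_zero hc0
  have hd : φ c⁻¹ = c⁻¹ := by rw [map_inv₀, hc]
  have hn32 : chevE6.neg 39 = 32 := by decide +kernel
  have hN : ∀ a : K, φ a = a → Elts.nG hE6 39 a ∈ H := by
    intro a ha
    rw [Elts.nG_def]
    have h1 : X 39 a ∈ H := hall 39 (by norm_num) (by decide +kernel) a ha
    have h2 : X (chevE6.neg 39) (-a⁻¹) ∈ H := by
      rw [hn32]
      exact hall 32 (by norm_num) (by decide +kernel) _ (by rw [map_neg, map_inv₀, ha])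
    exact mul_mem h1 (mul_mem h2 h1)
  have h1 : Elts.hG hE6 39 c⁻¹ ∈ H := by
    rw [Elts.hG_def]
    exact mul_mem (hN _ hd) (hN _ (by rw [map_neg, map_one]))
  have key : ∀ s, s < 72 → chevE6.cartan 3 s = -1 → ∀ a : K,
      Elts.hG hE6 39 c⁻¹ * X s a * (Elts.hG hE6 39 c⁻¹)⁻¹ = X s (c * a) := by
    intro s hs hcar a
    have h2 := BruhatSplit.hG_simple_conj hE6 (i := 3) (s := s) (by decide) hs hd0 a
    rw [simples.2.2.2.1, hcar, zpow_neg_one, inv_inv] at h2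
    exact h2
  have e : Elts.hG hE6 39 c⁻¹ * Q φ s * (Elts.hG hE6 39 c⁻¹)⁻¹ = Q φ (c * s) := by
    unfold Q
    rw [map_mul, hc, ← key 42 (by norm_num) (by decide +kernel), ← key 37 (by norm_num) (by decide +kernel)]
    group
  rw [← e]
  exact mul_mem (mul_mem h1 hs) (inv_mem h1)

theorem B_all (hall : ∀ r < 72, rho r = r → ∀ c, φ c = c → X r c ∈ H) (x : K) : Q φ x ∈ H := by
  obtain ⟨t, hψt, ht⟩ := V.exists_kap
  have hd : t - φ t ≠ 0 := sub_ne_zero.2 (Ne.symm ht)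
  obtain ⟨b, hb⟩ : ∃ b, b = (x - φ x) / (t - φ t) := ⟨_, rfl⟩
  have hb1 : φ b = b := by
    rw [hb, map_div₀, map_sub, map_sub, V.hφφ, V.hφφ]
    rw [div_eq_div_iff (by rw [← neg_sub]; exact neg_ne_zero.2 hd) hd]
    ring
  have hb2 : b * (t - φ t) = x - φ x := by rw [hb]; field_simp
  have ha : φ (x - b * t) = x - b * t := by
    rw [map_sub, map_mul, hb1]
    linear_combination hb2
  have e : x = (x - b * t) * 1 + b * t := by ring
  rw [e]
  exact V_add (V.B_smul hall ha (V.B_fix (map_one ψ))) (V.B_smul hall hb1 (V.B_fix hψt))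

/-- **E6.** -/
theorem full {t₀ : K} (h : X 71 t₀ ∈ H) (hψ : ψ t₀ ≠ t₀) : H = twistedE6 K q := by
  have hall : ∀ r < 72, rho r = r → ∀ c, φ c = c → X r c ∈ H := fun r hr hrr c hc => V.real_all h hψ hr hrr hc
  have hB := V.B_all hall
  have hn := V.mem_n
  have hqq : ∀ t : K, (t ^ q) ^ q = t := fun t => by rw [← V.hφ, ← V.hφ, V.hφφ]
  have hrs : ∀ y ∈ rs K [42, 37], y ∈ twistedE6 K q → y ∈ H := by
    intro y hy hyG
    obtain ⟨a, s, rfl⟩ := TwE6BN.PairOK.mem_pos TwE6BN.pair2 hy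
    have hs := TwE6BN.PairOK.fix_pos TwE6BN.pair2 (TwE6Basic.twisted_le_fix φ V.hφ hqq hyG)
    rw [hs]
    exact hB a
  refine le_antisymm V.le ((TwE6Basic.twisted_le_iff H).2 ⟨?_, ?_⟩)
  · intro s hs r hr
    have h1 : ∀ r ∈ [46, 25, 39, 32], r < 72 ∧ rho r = r := by decide +kernel
    exact hall r (h1 r hr).1 (h1 r hr).2 s (by rw [V.hφ, hs])
  · intro s rs' hrs'
    have hG := TwE6Basic.pair_mem (q := q) s hrs'
    have hmem : ∀ {i j : ℕ} {A : List ℕ}, i ∈ A → j ∈ A → TwE6Basic.x i s * TwE6Basic.x j (s ^ q) ∈ rs K A :=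
      fun hi hj => mul_mem (x_mem_rs hi _) (x_mem_rs hj _)
    simp only [List.mem_cons, List.not_mem_nil, or_false] at hrs'
    have step : ∀ (m : GL chevE6.Idx K) (w : Equiv.Perm (Fin 72)), TwE6BN.Acts m w → m ∈ H → m ∈ twistedE6 K q →
        ∀ A : List ℕ, (∀ r ∈ A, ∃ hr : r < 72, (w ⟨r, hr⟩).val ∈ [42, 37]) →
        ∀ y ∈ rs K A, y ∈ twistedE6 K q → y ∈ H := by
      intro m w hw hm hmG A hA y hy hyG
      exact conj_mem_H hm (hrs _ (conj_rs hw hA hy) (mul_mem (mul_mem hmG hyG) (inv_mem hmG)))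
    rcases hrs' with rfl | rfl | rfl | rfl
    · refine step (n 3 * n 2)⁻¹⁻¹ _ (((acts_n 3).mul (acts_n 2)).inv.inv) ?_ ?_ [56, 36] ?_ _ (hmem (by simp) (by simp)) hG
      · rw [inv_inv]; exact mul_mem (hn 3) (hn 2)
      · rw [inv_inv]; exact V.le (mul_mem (hn 3) (hn 2))
      · decide +kernel
    · refine step (n 3 * n 2 * n 3)⁻¹⁻¹ _ ((((acts_n 3).mul (acts_n 2)).mul (acts_n 3)).inv.inv) ?_ ?_ [15, 35] ?_ _
        (hmem (by simp) (by simp)) hG
      · rw [inv_inv]; exact mul_mem (mul_mem (hn 3) (hn 2)) (hn 3)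
      · rw [inv_inv]; exact V.le (mul_mem (mul_mem (hn 3) (hn 2)) (hn 3))
      · decide +kernel
    · exact hrs _ (hmem (by simp) (by simp)) hG
    · refine step (n 2) _ (acts_n 2) (hn 2) (V.le (hn 2)) [29, 34] ?_ _ (hmem (by simp) (by simp)) hG
      decide +kernel

end OvE6

end Cfsg.Agent.H225.TwOv
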