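import Mathlib

/-!
# The fields of the overgroup theorem for `²E₆` (S2187, X6, helper225)

`FD r a p q q0 φ ψ` : `K` is a field with `q ^ 2` elements, `q = q0 ^ p`, `q0 = r ^ a`, `p` an odd prime, `φ` the `q`-power map,
`ψ` the `q0 ^ 2`-power map.

* `FD.comm` : `ψ φ = φ ψ`; `FD.exists_kap` : `ψ κ = κ`, `φ κ ≠ κ`;
* `FD.all_of_sub` : there is no field strictly between the fixed points of `φ`, `ψ` and those of `φ`.
-/

set_option autoImplicit false

namespace Cfsg.Agent.H225.TwOv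

universe u

/-- the fields -/
structure FD {K : Type u} [Field K] [Fintype K] (r a p q q0 : ℕ) (φ ψ : K →+* K) : Prop where
  hr : r.Prime
  ch : CharP K r
  ha : 1 ≤ a
  hq0 : q0 = r ^ a
  hp : p.Prime
  hp2 : p ≠ 2
  hq : q = q0 ^ p
  hK : Fintype.card K = q ^ 2
  hφ : ∀ t, φ t = t ^ q
  hψ : ∀ t, ψ t = t ^ (q0 ^ 2)

namespace FD

variable {K : Type u} [Field K] [Fintype K] {r a p q q0 : ℕ} {φ ψ : K →+* K} (F : FD r a p q q0 φ ψ)

include F

theorem hφφ (t : K) : φ (φ t) = t := by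
  rw [F.hφ, F.hφ, ← pow_mul, ← sq, ← F.hK, FiniteField.pow_card]

theorem comm (t : K) : ψ (φ t) = φ (ψ t) := by
  rw [F.hφ, F.hψ, F.hψ, F.hφ, ← pow_mul, ← pow_mul, mul_comm]

theorem two_le : 2 ≤ q0 := by
  rw [F.hq0]
  exact le_trans F.hr.two_le (by
    calc r = r ^ 1 := (pow_one r).symm
      _ ≤ r ^ a := Nat.pow_le_pow_right F.hr.pos F.ha)

/-- the order of `Kˣ` -/
theorem card_units : Nat.card Kˣ = q0 ^ (2 * p) - 1 := by
  rw [Nat.card_units, Nat.card_eq_fintype_card, F.hK, F.hq, ← pow_mul, mul_comm p 2]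

/-- elements of given order -/
theorem exists_order {d : ℕ} (hd : d ∣ q0 ^ (2 * p) - 1) : ∃ x : Kˣ, orderOf x = d := by
  obtain ⟨g, hg⟩ := IsCyclic.exists_ofOrder_eq_natCard (α := Kˣ)
  rw [F.card_units] at hg
  obtain ⟨c, hc⟩ := hd
  have h1 := F.two_le
  have h0 : q0 ^ (2 * p) - 1 ≠ 0 := by
    have : 1 < q0 ^ (2 * p) := Nat.one_lt_pow (by have := F.hp.pos; omega) (by omega)
    omega
  have hc0 : c ≠ 0 := by
    rintro rfl
    rw [mul_zero] at hc
    exact h0 hc
  refine ⟨g ^ c, ?_⟩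
  rw [orderOf_pow_of_dvd hc0 ⟨d, by rw [hg, hc, mul_comm]⟩, hg, hc, Nat.mul_div_cancel _ (Nat.pos_of_ne_zero hc0)]

theorem odd : p % 2 = 1 := F.hp.eq_two_or_odd.resolve_left F.hp2

/-- **An element fixed by `ψ`, not by `φ`.** -/
theorem exists_kap : ∃ κ : K, ψ κ = κ ∧ φ κ ≠ κ := by
  have h2 := F.two_le
  have hd : q0 ^ 2 - 1 ∣ q0 ^ (2 * p) - 1 := by
    rw [pow_mul]
    exact Nat.sub_one_dvd_pow_sub_one _ _
  obtain ⟨x, hx⟩ := F.exists_order hd
  have hsq : 4 ≤ q0 ^ 2 := by nlinarith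
  have h1 : (x : K) ^ (q0 ^ 2) = x := by
    have : x ^ (q0 ^ 2) = x := by
      calc x ^ (q0 ^ 2) = x ^ ((q0 ^ 2 - 1) + 1) := by rw [Nat.sub_add_cancel (by omega)]
        _ = x := by rw [pow_succ, ← hx, pow_orderOf_eq_one, one_mul]
    exact_mod_cast congrArg Units.val this
  have h3 : ∀ n : ℕ, (x : K) ^ (q0 ^ (2 * n)) = x := by
    intro n
    induction n with
    | zero => rw [mul_zero, pow_zero, pow_one]
    | succ n ih => rw [mul_add, mul_one, pow_add, pow_mul, ih, h1]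
  refine ⟨x, by rw [F.hψ, h1], fun h4 => ?_⟩
  rw [F.hφ, F.hq] at h4
  obtain ⟨n, hn⟩ : ∃ n, p = 2 * n + 1 := ⟨p / 2, by have := F.odd; omega⟩
  rw [hn, pow_add, pow_one, pow_mul, h3] at h4
  have h5 : x ^ q0 = x := by
    apply Units.ext
    rw [Units.val_pow_eq_pow_val]
    exact h4
  have h6 : x ^ (q0 - 1) = 1 := by
    have : x ^ (q0 - 1) * x = 1 * x := by rw [← pow_succ, Nat.sub_add_cancel (by omega), h5, one_mul]
    exact mul_right_cancel this
  have h7 := orderOf_dvd_of_pow_eq_one h6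
  rw [hx] at h7
  have h8 := Nat.le_of_dvd (by omega) h7
  have : q0 < q0 ^ 2 := by nlinarith
  omega

/-- **There is no intermediate field.** -/
theorem all_of_sub (S : Subfield K) (hS : ∀ t ∈ S, φ t = t) (h0 : ∀ t, φ t = t → ψ t = t → t ∈ S) {t₀ : K}
    (ht₀ : t₀ ∈ S) (hψ₀ : ψ t₀ ≠ t₀) : ∀ t, φ t = t → t ∈ S := by
  have := F.ch
  have hrp : Fact r.Prime := ⟨F.hr⟩
  have h2 := F.two_le
  have hSf : Fintype ↥S := Fintype.ofFinite _
  have hchS : CharP ↥S r := RingHom.charP (algebraMap ↥S K) (algebraMap ↥S K).injective r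
  obtain ⟨b, -, hb⟩ := FiniteField.card ↥S r
  have hr1 : 1 < r := F.hr.one_lt
  -- powers of `r`
  have key : ∀ {m n : ℕ}, r ^ m - 1 ∣ r ^ n - 1 → m ∣ n := by
    intro m n h
    have h1 := Nat.pow_sub_one_gcd_pow_sub_one r m n
    rw [Nat.gcd_eq_left h] at h1
    have h3 : r ^ m = r ^ Nat.gcd m n := by
      have h4 : 0 < r ^ m := pow_pos F.hr.pos _
      have h5 : 0 < r ^ Nat.gcd m n := pow_pos F.hr.pos _
      omega
    have h4 := Nat.pow_right_injective (Nat.succ_le_of_lt hr1) h3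
    rw [h4]
    exact Nat.gcd_dvd_right m n
  -- `s - 1 ∣ q - 1`
  have hq1 : 0 < q := by rw [F.hq]; exact pow_pos (by omega) _
  have hcS : Nat.card (↥S)ˣ = Fintype.card ↥S - 1 := by rw [Nat.card_units, Nat.card_eq_fintype_card]
  have hbn : (b : ℕ) ∣ a * p := by
    obtain ⟨g, hg⟩ := IsCyclic.exists_ofOrder_eq_natCard (α := (↥S)ˣ)
    have h3 : g ^ (q - 1) = 1 := by
      have h4 : φ ((g : ↥S) : K) = ((g : ↥S) : K) := hS _ (g : ↥S).2
      rw [F.hφ] at h4
      have h5 : g ^ q = g := by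
        apply Units.ext
        apply Subtype.ext
        rw [Units.val_pow_eq_pow_val]
        exact h4
      have : g ^ (q - 1) * g = 1 * g := by rw [← pow_succ, Nat.sub_add_cancel hq1, h5, one_mul]
      exact mul_right_cancel this
    have h4 := orderOf_dvd_of_pow_eq_one h3
    rw [hg, hcS, hb, F.hq, F.hq0, ← pow_mul] at h4
    exact key h4
  have hab : a ∣ (b : ℕ) := by
    have hd : q0 - 1 ∣ q0 ^ (2 * p) - 1 := Nat.sub_one_dvd_pow_sub_one _ _
    obtain ⟨x, hx⟩ := F.exists_order hd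
    have h1 : x ^ q0 = x := by
      calc x ^ q0 = x ^ ((q0 - 1) + 1) := by rw [Nat.sub_add_cancel (by omega)]
        _ = x := by rw [pow_succ, ← hx, pow_orderOf_eq_one, one_mul]
    have h3 : ∀ n : ℕ, (x : K) ^ (q0 ^ n) = x := by
      intro n
      induction n with
      | zero => rw [pow_zero, pow_one]
      | succ n ih =>
        rw [pow_succ, pow_mul, ih]
        exact_mod_cast congrArg Units.val h1
    have hxS : (x : K) ∈ S := h0 _ (by rw [F.hφ, F.hq, h3]) (by rw [F.hψ, h3])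
    have hy : ((⟨x, hxS⟩ : ↥S)) ≠ 0 := fun h => x.ne_zero (congrArg Subtype.val h)
    have h4 : (Units.mk0 (⟨x, hxS⟩ : ↥S) hy) ^ (Fintype.card ↥S - 1) = 1 := by
      rw [← hcS]
      exact pow_card_eq_one'
    have h5 : x ^ (Fintype.card ↥S - 1) = 1 := by
      have h6 := congrArg (fun z : (↥S)ˣ => ((z : ↥S) : K)) h4
      simp only [Units.val_pow_eq_pow_val, Units.val_mk0, SubmonoidClass.coe_pow, Units.val_one, OneMemClass.coe_one] at h6
      apply Units.ext
      rw [Units.val_pow_eq_pow_val, Units.val_one]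
      exact h6
    have h6 := orderOf_dvd_of_pow_eq_one h5
    rw [hx, hb, F.hq0] at h6
    exact key h6
  obtain ⟨c, hc⟩ := hab
  have hcp : c ∣ p := by
    rw [hc] at hbn
    exact Nat.dvd_of_mul_dvd_mul_left F.ha hbn
  rcases (Nat.dvd_prime F.hp).1 hcp with rfl | rfl
  · exfalso
    apply hψ₀
    have h3 : (⟨t₀, ht₀⟩ : ↥S) ^ Fintype.card ↥S = ⟨t₀, ht₀⟩ := FiniteField.pow_card _
    rw [hb, hc, mul_one, ← F.hq0] at h3
    have h4 : t₀ ^ q0 = t₀ := congrArg Subtype.val h3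
    rw [F.hψ, sq, pow_mul, h4, h4]
  · -- `S` has `q` elements
    have hcard : Fintype.card ↥S = q := by rw [hb, hc, F.hq, F.hq0, ← pow_mul]
    intro t ht
    by_contra hcon
    classical
    let P : Finset K := insert t (Finset.univ.image fun s : ↥S => (s : K))
    have h3 : P.card = q + 1 := by
      rw [Finset.card_insert_of_notMem, Finset.card_image_of_injective _ Subtype.val_injective, Finset.card_univ, hcard]
      intro h4
      obtain ⟨s, -, rfl⟩ := Finset.mem_image.1 h4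
      exact hcon s.2
    have hq2 : 1 < q := by rw [F.hq]; exact Nat.one_lt_pow F.hp.pos.ne' (by omega)
    have hne : (Polynomial.X ^ q - Polynomial.X : Polynomial K) ≠ 0 := FiniteField.X_pow_card_sub_X_ne_zero K hq2
    have h4 : P.card ≤ (Polynomial.X ^ q - Polynomial.X : Polynomial K).natDegree := by
      refine Polynomial.card_le_degree_of_subset_roots ?_
      intro z hz
      rw [Polynomial.mem_roots hne, Polynomial.IsRoot, Polynomial.eval_sub, Polynomial.eval_pow, Polynomial.eval_X,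
        sub_eq_zero]
      rw [Finset.mem_val] at hz
      rcases Finset.mem_insert.1 hz with rfl | hz
      · rw [← F.hφ, ht]
      · obtain ⟨s, -, rfl⟩ := Finset.mem_image.1 hz
        rw [← F.hφ, hS _ s.2]
    rw [FiniteField.X_pow_card_sub_X_natDegree_eq K hq2, h3] at h4
    omega

end FD

end Cfsg.Agent.H225.TwOv
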